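import Cfsg.Agent.H143.Ore.TwF
import Cfsg.Agent.H494.TC.Base
import Cfsg.Agent.H210.TC.Row

/-!
# S2464, S2452: the Tits group (PP form) and `²F₄(q)` (elements of order prime to 6) (helper748)
-/

set_option autoImplicit false
set_option linter.unusedSectionVars false

namespace Cfsg.Agent.H748.TC

open Cfsg Cfsg.Agent.H494.TC Cfsg.Agent.H210.TC

/-! ### the Tits group -/

section Tits

open Cfsg.Agent.ChevalleyStructure.Tits.Pack Cfsg.Agent.ChevalleyStructure.Tits.Data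
  Cfsg.Agent.ChevalleyStructure.Tits.Cert Cfsg.Agent.ChevalleyStructure.Tits.Rank2
  Cfsg.Agent.ChevalleyStructure.Tits.Sat Cfsg.Agent.ChevalleyStructure.Tits.Final
  Cfsg.Agent.ChevalleyStructure.Tits.Mat Cfsg.Agent.ChevalleyStructure.Tits.Order
  Cfsg.Agent.ChevalleyStructure.Tits.Table Cfsg.Agent.ChevalleyStructure.Tits.Main
open Cfsg.Agent.H246.TitsComp hiding go go_ok go_zero go_succ_even go_succ_odd sound
open Cfsg.Agent.H84.TitsCovData Cfsg.Agent.H84.TitsCovChk Cfsg.Agent.H84.TitsCov Cfsg.Agent.H84.TitsConj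
open Cfsg.Agent.H143.Ore

theorem pp_result (K : Subgroup (Matrix.GeneralLinearGroup I52 (ZMod 2))) (hK : K = H0) (hF : ∀ t ∈ K, t ≠ 1 → Form t) :
    PP (commutator K) := by
  subst hK
  obtain ⟨χ, h0, h1⟩ := exists_chi
  have h7 := h1 7 (by norm_num) (by norm_num)
  have hm := mem_commutator_iff χ h7
  have hf1 : f1 ∈ commutator H0 := (hm f1).2 (O5_sign χ O5_f1)
  have h5 : Fact (Nat.Prime 5) := ⟨by norm_num⟩
  obtain ⟨k1, k2⟩ : f1 ^ 5 = 1 ∧ f1 ≠ 1 := O5_f1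
  have hord0 : orderOf f1 = 5 := orderOf_eq_prime k1 k2
  have hord : orderOf (⟨f1, hf1⟩ : commutator H0) = 5 := (Subgroup.orderOf_mk f1 hf1).trans hord0
  refine ⟨⟨f1, hf1⟩, by rw [hord]; norm_num, by rw [hord]; norm_num, ?_⟩
  intro g hg
  have h3 : ((g : H0) : Matrix.GeneralLinearGroup I52 (ZMod 2)) ≠ 1 := fun h => hg (Subtype.ext (Subtype.ext h))
  obtain ⟨a, ha, b, hb, h⟩ := cover_H0 g.2 (hF _ (g : H0).2 h3)
  exact ⟨⟨a, ha⟩, ⟨b, hb⟩, Subtype.ext h⟩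

theorem pp_titsGroup : PP Cfsg.Lie.TitsGroup := by
  obtain ⟨φ, hφ⟩ := Cfsg.Agent.ChevalleyStructure.TwF4.TwistedFix.exists_rln Cfsg.Agent.H84.TitsLink.hK0
  refine pp_result T0 T0_eq_H0 ?_
  intro t ht ht1
  obtain ⟨k, w, hw, v, hv, h⟩ := Cfsg.Agent.H84.TitsLink.form_of hφ (t := ⟨t, ht⟩) (fun h => ht1 (congrArg Subtype.val h))
  have hk : Cfsg.Agent.H84.TitsLink.cg k ∈ H0 := by rw [← T0_eq_H0]; exact k.2
  exact ⟨Cfsg.Agent.H84.TitsLink.cg k, hk, w, hw, v, hv, h⟩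

theorem pp_transfer {Γ : Type*} [Group Γ] (K : Subgroup Γ) {M : Type*} [Group M]
    (f : M ≃* commutator K) (h : PP (commutator K)) : PP M := PP.of_equiv f h

/-- **the Tits group** -/
theorem pp_tits {M : Type*} [Group M] (h : Cfsg.Lie.IsoTits M) : PP M := by
  obtain ⟨f⟩ : Nonempty (M ≃* Cfsg.Lie.TitsGroup) := h
  exact pp_transfer (Cfsg.Lie.twistedF4 (ZMod 2) 1) f pp_titsGroup

theorem row3_tits {M : Type*} [Group M] (h : Cfsg.Lie.IsoTits M) : Row3 M := by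
  obtain ⟨x, h1, h2, h3⟩ := pp_tits h
  exact Row3.of_sq h1 h2 h3

end Tits

/-! ### `²F₄(q)`, the form of S2464 -/

section Main

open Cfsg.Agent.KFacts.TwF4 Cfsg.Agent.H84.GaussTwF4
open Cfsg.Agent.KFacts.TwF4.Inst Cfsg.Agent.ChevalleyStructure.TwF4.TwistedFix
open Cfsg.Lie Cfsg.Agent.H84.TwF4Cover

theorem three_not_dvd (m : ℕ) : ¬ 3 ∣ 2 ^ (2 * m + 1) - 1 := by
  intro h
  have h1 : 2 ^ (2 * m + 1) % 3 = 2 := by
    rw [pow_succ, pow_mul, Nat.mul_mod, Nat.pow_mod]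
    norm_num
  have h2 : 1 ≤ 2 ^ (2 * m + 1) := Nat.one_le_two_pow
  omega

theorem coprime_six {m n : ℕ} (h : n ∣ 5 * (2 ^ (2 * m + 1) - 1)) : Nat.Coprime n 6 := by
  have h2 : Odd (2 ^ (2 * m + 1) - 1) :=
    Nat.Even.sub_odd Nat.one_le_two_pow ((Nat.even_pow' (by omega)).mpr even_two) odd_one
  rw [show (6 : ℕ) = 2 * 3 by norm_num]
  refine Nat.Coprime.coprime_dvd_left h (Nat.Coprime.mul_right ?_ ?_)
  · exact Nat.Coprime.mul_left (by norm_num) (Nat.coprime_two_right.2 h2)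
  · refine Nat.Coprime.mul_left (by norm_num) ?_
    exact ((Nat.Prime.coprime_iff_not_dvd (by norm_num)).2 (three_not_dvd m)).symm

/-- `²F₄(q)`, `q ≥ 8` -/
theorem main6 {K : Type*} [Field K] [Fintype K] {m : ℕ} (hm : 1 ≤ m) (hK : Fintype.card K = 2 ^ (2 * m + 1)) :
    ∃ x : ↥(twistedF4 K (2 ^ m)), Nat.Coprime (orderOf x) 6 ∧ ∀ g : ↥(twistedF4 K (2 ^ m)), g ≠ 1 →
      ∃ u v : ↥(twistedF4 K (2 ^ m)), g = (u * x * u⁻¹) * (v * x * v⁻¹) := by
  have hchar := Cfsg.Agent.ChevalleyStructure.TwF4.Twisted.charP_two hK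
  obtain ⟨φ, hφ⟩ := exists_rln hK
  have hfin : Finite (GL chevF4.Idx K) := inferInstance
  have hq : 2 ^ 3 ≤ 2 ^ (2 * m + 1) := Nat.pow_le_pow_right (by norm_num) (by omega)
  have hcard : Nat.card Kˣ = 2 ^ (2 * m + 1) - 1 := by rw [Nat.card_units, Nat.card_eq_fintype_card, hK]
  obtain ⟨s, hs, hs5, hcov⟩ := LL_cover (full hK hφ) (k := 2 * m + 1) (by omega)
    (by rw [Nat.card_eq_fintype_card, hK])
  obtain ⟨d, hd⟩ : ∃ d : Kˣ, d ≠ 1 := by
    classical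
    have h1 : 1 < Fintype.card Kˣ := by
      rw [Fintype.card_units, hK]
      omega
    exact Fintype.exists_ne_of_one_lt_card h1 1
  have hd5 : d ^ 5 ≠ 1 := by
    intro h
    have h1 := orderOf_dvd_of_pow_eq_one h
    have h2 := orderOf_dvd_natCard d
    rw [hcard] at h2
    rcases (Nat.dvd_prime (by norm_num : Nat.Prime 5)).1 h1 with h3 | h3
    · exact hd (orderOf_eq_one_iff.1 h3)
    · rw [h3] at h2
      exact five_not_dvd m h2
  refine ⟨s * (full hK hφ).h 1 d, ?_, fun g hg => cover hs hs5 hcov hd5 hg⟩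
  have h1 : (s * (full hK hφ).h 1 d) ^ (5 * (2 ^ (2 * m + 1) - 1)) = 1 := by
    have hc : Commute s ((full hK hφ).h 1 d) := (h_comm_LL d hs).symm
    rw [hc.mul_pow, pow_mul, hs5, one_pow, one_mul, h_pow', mul_comm, pow_mul, ← hcard, pow_card_eq_one', one_pow,
      (full hK hφ).h_one]
  exact coprime_six (orderOf_dvd_of_pow_eq_one h1)

/-- **`²F₄(q)`**, the form of S2464 -/
theorem tc6_2f4 {M : Type*} [Group M] (h : Cfsg.Lie.Iso2F4 M) : ∃ x y : M, Nat.Coprime (orderOf x) 6 ∧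
    Nat.Coprime (orderOf y) 6 ∧ ∀ g : M, g ≠ 1 → ∃ u v : M, g = (u * x * u⁻¹) * (v * y * v⁻¹) := by
  obtain ⟨K, _, _, m, hm, hK, ⟨f⟩⟩ := h
  obtain ⟨x, hx, hcov⟩ := main6 hm hK
  have ho : orderOf (f.symm x) = orderOf x := MulEquiv.orderOf_eq _ _
  refine ⟨f.symm x, f.symm x, by rw [ho]; exact hx, by rw [ho]; exact hx, fun g hg => ?_⟩
  obtain ⟨u, v, e⟩ := hcov (f g) (fun h1 => hg (f.injective (by rw [h1, map_one])))
  refine ⟨f.symm u, f.symm v, f.injective ?_⟩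
  rw [e]
  simp

theorem tc6_tits {M : Type*} [Group M] (h : Cfsg.Lie.IsoTits M) : ∃ x y : M, Nat.Coprime (orderOf x) 6 ∧
    Nat.Coprime (orderOf y) 6 ∧ ∀ g : M, g ≠ 1 → ∃ u v : M, g = (u * x * u⁻¹) * (v * y * v⁻¹) := (pp_tits h).cop

end Main

end Cfsg.Agent.H748.TC
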